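import Cfsg.Agent.Spor.Chk

set_option autoImplicit false
set_option maxRecDepth 100000000
set_option Elab.async false
noncomputable section

namespace Cfsg.Agent.Spor.Th96

def m0_0 : Nat := nat_lit 0xc0000000000000000003
def m0_1 : Nat := nat_lit 0xc5003e00f000fe0054004a
def m0_2 : Nat := nat_lit 0x40801000208010009000f06
def m0_3 : Nat := nat_lit 0x30302000122102033000033
def m0_4 : Nat := nat_lit 0x151554544554505055555555
def m0_5 : Nat := nat_lit 0x22000000000000000
def m0_6 : Nat := nat_lit 0x80400010101000100000000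
def m0_7 : Nat := nat_lit 0xa0001000f00010054004a
def m0_8 : Nat := nat_lit 0xc0000000000000000003
def n0 : Net := Net.cons 16 m0_0 (Net.cons 8 m0_1 (Net.cons 4 m0_2 (Net.cons 2 m0_3 (Net.cons 1 m0_4 (Net.cons 2 m0_5 (Net.cons 4 m0_6 (Net.cons 8 m0_7 (Net.cons 16 m0_8 (Net.nil)))))))))

def m1_0 : Nat := nat_lit 0x528000000000042a
def m1_1 : Nat := nat_lit 0x12c0000000009450c688
def m1_2 : Nat := nat_lit 0x12c00000553100003d7f0000cffa
def m1_3 : Nat := nat_lit 0x400000004b00230081009000990080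
def m1_4 : Nat := nat_lit 0x90f0a000108010101080300
def m1_5 : Nat := nat_lit 0x320111010002010002010003
def m1_6 : Nat := nat_lit 0x141001140010454015400010
def m1_7 : Nat := nat_lit 0x1000000000000000000000
def m1_8 : Nat := nat_lit 0x30000000000010801000008
def m1_9 : Nat := nat_lit 0x800260081009800910080
def m1_10 : Nat := nat_lit 0x400000501b0000000000008300
def m1_11 : Nat := nat_lit 0x12c000000000182a48f2
def m1_12 : Nat := nat_lit 0x528000000000042a
def n1 : Net := Net.cons 64 m1_0 (Net.cons 32 m1_1 (Net.cons 16 m1_2 (Net.cons 8 m1_3 (Net.cons 4 m1_4 (Net.cons 2 m1_5 (Net.cons 1 m1_6 (Net.cons 2 m1_7 (Net.cons 4 m1_8 (Net.cons 8 m1_9 (Net.cons 16 m1_10 (Net.cons 32 m1_11 (Net.cons 64 m1_12 (Net.nil)))))))))))))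

def m2_0 : Nat := nat_lit 0xa851000000000104
def m2_1 : Nat := nat_lit 0x28d100000000106cb535
def m2_2 : Nat := nat_lit 0x2851000042890000c5ce0000bf72
def m2_3 : Nat := nat_lit 0x20003a00850004003000190010
def m2_4 : Nat := nat_lit 0x402020a00020000010a0502
def m2_5 : Nat := nat_lit 0x20000020031031231001030110100020
def m2_6 : Nat := nat_lit 0x401450004101050401100504
def m2_7 : Nat := nat_lit 0x1000001001000000100001
def m2_8 : Nat := nat_lit 0x40202000002000001020502
def m2_9 : Nat := nat_lit 0x20000a00800004000000190010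
def m2_10 : Nat := nat_lit 0x200000004289000085000000084e
def m2_11 : Nat := nat_lit 0x28d1000000001060b538
def m2_12 : Nat := nat_lit 0xa851000000000104
def n2 : Net := Net.cons 64 m2_0 (Net.cons 32 m2_1 (Net.cons 16 m2_2 (Net.cons 8 m2_3 (Net.cons 4 m2_4 (Net.cons 2 m2_5 (Net.cons 1 m2_6 (Net.cons 2 m2_7 (Net.cons 4 m2_8 (Net.cons 8 m2_9 (Net.cons 16 m2_10 (Net.cons 32 m2_11 (Net.cons 64 m2_12 (Net.nil)))))))))))))

def m3_0 : Nat := nat_lit 0x61c8000000000011
def m3_1 : Nat := nat_lit 0x332800000000544266a6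
def m3_2 : Nat := nat_lit 0x2128000002640000b95900009725
def m3_3 : Nat := nat_lit 0x100000071004400030024001c008f
def m3_4 : Nat := nat_lit 0x10000080108050600000604000205
def m3_5 : Nat := nat_lit 0x10300000113302211110112031102111
def m3_6 : Nat := nat_lit 0x10501100000540011115110004455140
def m3_7 : Nat := nat_lit 0x10000000000000011110110001100000
def m3_8 : Nat := nat_lit 0x10000000108040000000204000500
def m3_9 : Nat := nat_lit 0x100000071004000030024001c0046
def m3_10 : Nat := nat_lit 0x2120000002640000214800009505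
def m3_11 : Nat := nat_lit 0x332800000000544266a6
def m3_12 : Nat := nat_lit 0x61c8000000000011
def n3 : Net := Net.cons 64 m3_0 (Net.cons 32 m3_1 (Net.cons 16 m3_2 (Net.cons 8 m3_3 (Net.cons 4 m3_4 (Net.cons 2 m3_5 (Net.cons 1 m3_6 (Net.cons 2 m3_7 (Net.cons 4 m3_8 (Net.cons 8 m3_9 (Net.cons 16 m3_10 (Net.cons 32 m3_11 (Net.cons 64 m3_12 (Net.nil)))))))))))))

def cl1 : Nat := nat_lit 0xffffffffffffffffffffffff
def tm1_0 : Nat := nat_lit 0x44ed4280ffe70001fffc006e
def tm1_1 : Nat := nat_lit 0x29c4008fee6dfaf40835a90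
def tm1_2 : Nat := nat_lit 0x6bdc2c8ffffdfbeffffff6c
def tm1_3 : Nat := nat_lit 0xf9423d370000204000000000
def ip1_0 : Nat := nat_lit 0x76f02709921176e624494a90
def ip1_1 : Nat := nat_lit 0x36712789821176e624494a92
def ip1_2 : Nat := nat_lit 0x890ed8766dee8919dbb6b56c
def ip1 : List Nat := [ip1_0, ip1_1, ip1_2]
def l1 : Let := ⟨0, false, cl1, 0x2, [tm1_0, tm1_1, tm1_2, tm1_3]⟩

def cl2 : Nat := nat_lit 0xffffffffffffffffffffffff
def tt2 : Nat := nat_lit 0x554a22944489883048424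
def tm2_0 : Nat := nat_lit 0x63c57caa694c589893048424
def tm2_1 : Nat := nat_lit 0xfeeaa340c210022234494a90
def tm2_2 : Nat := nat_lit 0xfbc8a848c009900100000000
def tm2_3 : Nat := nat_lit 0x1000000000000000000000
def ip2_0 : Nat := nat_lit 0x208554a2694c489983048424
def ip2_1 : Nat := nat_lit 0x56722308c211122224494a90
def ip2_2 : Nat := nat_lit 0x890888400000800010000000
def ip2 : List Nat := [ip2_0, ip2_1, ip2_2]
def l2 : Let := ⟨1, false, cl2, tt2, [tm2_0, tm2_1, tm2_2, tm2_3]⟩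

def cl3 : Nat := nat_lit 0xffffffffffffffffffffffff
def tt3 : Nat := nat_lit 0xa9c8885554aaa54558b23148
def tm3_0 : Nat := nat_lit 0xa9c88c5574aaad455ab23148
def tm3_1 : Nat := nat_lit 0x104800000001002000000
def tm3_2 : Nat := nat_lit 0x52132588a300080000000000
def ip3_0 : Nat := nat_lit 0xa9c8885574aaad455ab23148
def ip3_1 : Nat := nat_lit 0x52122108a200000000000000
def ip3_2 : Nat := nat_lit 0x104800100001000000000
def ip3 : List Nat := [ip3_0, ip3_1, ip3_2]
def l3 : Let := ⟨2, false, cl3, tt3, [tm3_0, tm3_1, tm3_2, 0x0]⟩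

def cl4 : Nat := nat_lit 0xffffffffffffffffffffffff
def tt4 : Nat := nat_lit 0x563223088211122224494a90
def tm4_0 : Nat := nat_lit 0x5eb27f2aae555aaaa5494a90
def tm4_1 : Nat := nat_lit 0x28c050233c666cccc9921000
def tm4_2 : Nat := nat_lit 0x28c40c100000000000000000
def tm4_3 : Nat := nat_lit 0x800000000000000000000000
def ip4_0 : Nat := nat_lit 0xfef22b19963336666cdb5a90
def ip4_1 : Nat := nat_lit 0xa8c45c333c666cccc9921000
def ip4 : List Nat := [ip4_0, ip4_1]
def l4 : Let := ⟨3, false, cl4, tt4, [tm4_0, tm4_1, tm4_2, tm4_3]⟩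

def cl5 : Nat := nat_lit 0xffffffffffffffffffffffff
def tm5_0 : Nat := nat_lit 0x5a17f93ff013201ff11e0f2
def tm5_1 : Nat := nat_lit 0x18d7d93ffe7edbf4082ba91
def tm5_2 : Nat := nat_lit 0x7bcff5bfefeffaeffff5f6c
def tm5_3 : Nat := nat_lit 0xf84200240000004000000000
def ip5_0 : Nat := nat_lit 0x2632221a8a1176a664494892
def ip5_1 : Nat := nat_lit 0x26b2a25a9a1976a764494891
def ip5_2 : Nat := nat_lit 0xd94d5da565e689589bb6b76c
def ip5 : List Nat := [ip5_0, ip5_1, ip5_2]
def l5 : Let := ⟨0, true, cl5, 0x0, [tm5_0, tm5_1, tm5_2, tm5_3]⟩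

def cl6 : Nat := nat_lit 0xffffffffffffffffffffffff
def tm6_0 : Nat := nat_lit 0x6d775fe2ab55cabba74dceb4
def tm6_1 : Nat := nat_lit 0x6dfa8b5d56b227676cfb7bdb
def tm6_2 : Nat := nat_lit 0x69d88848c009900010000000
def tm6_3 : Nat := nat_lit 0x920020000000000000000000
def ip6_0 : Nat := nat_lit 0xd67777aaab555abaa74dceb4
def ip6_1 : Nat := nat_lit 0x5e72231d96b3b7667cfb7bdb
def ip6_2 : Nat := nat_lit 0xa18888404008000100000000
def ip6 : List Nat := [ip6_0, ip6_1, ip6_2]
def l6 : Let := ⟨1, true, cl6, 0x0, [tm6_0, tm6_1, tm6_2, tm6_3]⟩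

def cl7 : Nat := nat_lit 0xffffffffffffffffffffffff
def tm7_0 : Nat := nat_lit 0xfbdba95df7aaa5455ab23148
def tm7_1 : Nat := nat_lit 0x42556a2285552aaa74dceb7
def tm7_2 : Nat := nat_lit 0x52132588a300081000000000
def ip7_0 : Nat := nat_lit 0xfbdba9ddd6aaa5455ab23148
def ip7_1 : Nat := nat_lit 0x5636732a8b5552baa54dceb7
def ip7_2 : Nat := nat_lit 0x104802000080000000000
def ip7 : List Nat := [ip7_0, ip7_1, ip7_2]
def l7 : Let := ⟨2, true, cl7, 0x0, [tm7_0, tm7_1, tm7_2, 0x0]⟩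

def cl8 : Nat := nat_lit 0xffffffffffffffffffffffff
def tm8_0 : Nat := nat_lit 0xd6f22709963336666cdb5a90
def tm8_1 : Nat := nat_lit 0x818d88c551aaa5555ab6b56f
def tm8_2 : Nat := nat_lit 0x80c45c322c44488881000000
def tm8_3 : Nat := nat_lit 0x280000000000000000000000
def ip8_0 : Nat := nat_lit 0x5636772aaa555aaaa5494a90
def ip8_1 : Nat := nat_lit 0x90dd4e669ccc9999324a56f
def ip8_2 : Nat := nat_lit 0xa0c008111422244448921000
def ip8 : List Nat := [ip8_0, ip8_1, ip8_2]
def l8 : Let := ⟨3, true, cl8, 0x0, [tm8_0, tm8_1, tm8_2, tm8_3]⟩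

def NT : List Net := [n0, n1, n2, n3]
def LT : List Let := [⟨0, false, 0, 0, []⟩, l1, l2, l3, l4, l5, l6, l7, l8]
def T : Tab := ⟨NT, LT⟩
def EX : List (List Nat) := [[], [0], [2], [4], [6], [1], [3], [5], [7]]
def RL : List (List Nat) := [[0, 0], [2, 2], [4, 4], [6, 6], [0, 6, 0, 6], [0, 5, 3, 5, 3, 5, 3, 5, 3], [2, 6, 2, 6], [4, 6, 4, 6, 4, 6]]
def XL : List (List Nat) := []
def BW : List (List Nat) := []
def IV : Nat := 0x40302010807060500
def L : List Nat := [1, 2, 3, 4, 5, 6, 7, 8]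
def gs : List Nat := [1, 2, 3, 4]
def base : List Nat := []

end Cfsg.Agent.Spor.Th96
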